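import Groth.Agent.S1386
import Groth.Agent.S2156
import Groth.Agent.L20.FlatStalk
import Groth.Agent.L16.Exist.Alg
import Mathlib.RingTheory.DiscreteValuationRing.Basic
import Mathlib.AlgebraicGeometry.Morphisms.Proper

/-!
Flatness and smoothness of a proper morphism near the special fibre, and base change to the completion.
-/

set_option autoImplicit false
set_option linter.style.haveILetI false
set_option linter.unusedSectionVars false
set_option linter.overlappingInstances false
set_option backward.isDefEq.respectTransparency false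
set_option backward.isDefEq.respectTransparency.types false

universe u

open CategoryTheory CategoryTheory.Limits AlgebraicGeometry TopologicalSpace

noncomputable section

namespace Groth.L07.FlatCompl

variable {A : Type u} [CommRing A]

theorem appTop_eq_zero_of_range {Z : Scheme.{u}} [IsReduced Z] (φ : Z ⟶ Spec (CommRingCat.of A)) (a : A)
    (h : ∀ z : Z, a ∈ (show PrimeSpectrum A from φ z).asIdeal) :
    φ.appTop ((Scheme.ΓSpecIso (CommRingCat.of A)).inv a) = 0 := by
  refine (basicOpen_eq_bot_iff _).1 ?_
  rw [Scheme.Hom.appTop]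
  erw [← Scheme.preimage_basicOpen]
  rw [basicOpen_eq_of_affine']
  erw [Iso.inv_hom_id_apply]
  exact bot_unique fun z hz => (show a ∉ (show PrimeSpectrum A from φ z).asIdeal from hz) (h z)

theorem exists_fac_quot (J : Ideal A) {Z : Scheme.{u}} [IsAffine Z] (φ : Z ⟶ Spec (CommRingCat.of A))
    (h : ∀ a ∈ J, φ.appTop ((Scheme.ΓSpecIso (CommRingCat.of A)).inv a) = 0) :
    ∃ e, e ≫ Spec.map (CommRingCat.ofHom (Ideal.Quotient.mk J)) = φ := by
  let ψ : A →+* Γ(Z, ⊤) := ((Scheme.ΓSpecIso (CommRingCat.of A)).inv ≫ φ.appTop).hom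
  refine ⟨Z.isoSpec.hom ≫ Spec.map (CommRingCat.ofHom (Ideal.Quotient.lift J ψ h)), ?_⟩
  rw [Category.assoc, ← Spec.map_comp, ← CommRingCat.ofHom_comp,
    show (Ideal.Quotient.lift J ψ h).comp (Ideal.Quotient.mk J) = ψ from RingHom.ext fun _ => rfl,
    CommRingCat.ofHom_hom, Spec.map_comp, ← Category.assoc]
  rw [Scheme.isoSpec_hom_naturality φ, Category.assoc]
  conv_rhs => rw [← Category.comp_id φ]
  congr 1
  rw [Scheme.isoSpec_Spec_hom, ← Spec.map_comp, Iso.inv_hom_id, Spec.map_id]

variable (V : Type u) [CommRing V] [IsLocalRing V] [Algebra V A]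

/-- The special fibre as an ideal. -/
abbrev J (V A : Type u) [CommRing V] [IsLocalRing V] [CommRing A] [Algebra V A] : Ideal A :=
  (IsLocalRing.maximalIdeal V).map (algebraMap V A)

variable (A) in
/-- The structure morphism. -/
abbrev str : Spec (CommRingCat.of A) ⟶ Spec (CommRingCat.of V) :=
  Spec.map (CommRingCat.ofHom (algebraMap V A))

variable (A) in
theorem str_eq_closedPoint_iff (y : Spec (CommRingCat.of A)) :
    str A V y = IsLocalRing.closedPoint V ↔ J V A ≤ (show PrimeSpectrum A from y).asIdeal := by
  rw [Ideal.map_le_iff_le_comap]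
  exact ⟨fun h => (congrArg PrimeSpectrum.asIdeal h).ge,
    fun h => PrimeSpectrum.ext ((IsLocalRing.le_maximalIdeal
      (PrimeSpectrum.isPrime (PrimeSpectrum.comap (algebraMap V A) y)).ne_top).antisymm h)⟩

variable {X : Scheme.{u}} (h : X ⟶ Spec (CommRingCat.of A))

/-- The reduction of `h`. -/
abbrev h₀ : pullback h (Spec.map (CommRingCat.ofHom (Ideal.Quotient.mk (J V A)))) ⟶
    Spec (CommRingCat.of (A ⧸ J V A)) := pullback.snd _ _

theorem prop_snd_of_fac (P : MorphismProperty Scheme.{u}) [P.IsStableUnderBaseChange] (hP : P (h₀ V h))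
    {Z : Scheme.{u}} [IsAffine Z] (φ : Z ⟶ Spec (CommRingCat.of A))
    (hφ : ∀ a ∈ J V A, φ.appTop ((Scheme.ΓSpecIso (CommRingCat.of A)).inv a) = 0) : P (pullback.snd h φ) := by
  obtain ⟨e, rfl⟩ := exists_fac_quot (J V A) φ hφ
  have h1 : IsPullback (pullback.map h (e ≫ _) h (Spec.map (CommRingCat.ofHom (Ideal.Quotient.mk (J V A))))
      (𝟙 _) e (𝟙 _) (by simp) (Category.comp_id _)) (pullback.snd h (e ≫ Spec.map (CommRingCat.ofHom (Ideal.Quotient.mk (J V A))))) (h₀ V h) e := by
    refine IsPullback.of_right ?_ (pullback.lift_snd _ _ _) (IsPullback.of_hasPullback _ _)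
    rw [pullback.lift_fst, Category.comp_id]
    exact IsPullback.of_hasPullback _ _
  exact P.of_isPullback h1 hP

/-- The kernel condition on the fibre over the closed point. -/
theorem fiberι_appTop {s : Spec (CommRingCat.of V)} (hs : s = IsLocalRing.closedPoint V) (a : A) (ha : a ∈ J V A) :
    ((str A V).fiberι s).appTop ((Scheme.ΓSpecIso (CommRingCat.of A)).inv a) = 0 := by
  induction ha using Submodule.span_induction with
  | mem a ha =>
    obtain ⟨v, hv, rfl⟩ := ha
    have h1 : (Scheme.ΓSpecIso (CommRingCat.of A)).inv (algebraMap V A v) =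
        (str A V).appTop ((Scheme.ΓSpecIso (CommRingCat.of V)).inv v) :=
      congr($(Scheme.ΓSpecIso_inv_naturality (CommRingCat.ofHom (algebraMap V A))) v)
    rw [h1]
    show ((str A V).appTop ≫ ((str A V).fiberι s).appTop) _ = 0
    rw [← Scheme.Hom.comp_appTop, (str A V).fiber_fac s, Scheme.Hom.comp_appTop, CommRingCat.comp_apply,
      appTop_eq_zero_of_range ((Spec (CommRingCat.of V)).fromSpecResidueField s) v, map_zero]
    intro z
    rw [Scheme.fromSpecResidueField_apply, hs]
    exact hv
  | zero => rw [map_zero, map_zero]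
  | add a b _ _ ha hb => rw [map_add, map_add, ha, hb, add_zero]
  | smul a b _ hb => rw [smul_eq_mul, map_mul, map_mul, hb, mul_zero]

variable [LocallyOfFinitePresentation (h ≫ str A V)] [LocallyOfFiniteType (str A V)]

/-- The fibrewise criterion at the points over the closed point. -/
theorem flat_stalk_of_closed (hX : Flat (h ≫ str A V)) (h0 : Flat (h₀ V h)) (x : X)
    (hx : str A V (h x) = IsLocalRing.closedPoint V) : (h.stalkMap x).hom.Flat := by
  haveI := hX
  let s := str A V (h x)
  haveI : Flat (pullback.snd h ((str A V).fiberι s)) :=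
    prop_snd_of_fac V h @Flat h0 _ (fiberι_appTop V hx)
  have sq : IsPullback ((h ≫ str A V).fiberι s) (MoreMor.fiberMap h (str A V) s) h ((str A V).fiberι s) := by
    refine IsPullback.of_bot ?_ (pullback.lift_fst _ _ _).symm (IsPullback.of_hasPullback (str A V) _)
    rw [MoreMor.fiberMap]
    erw [pullback.lift_snd]
    exact IsPullback.of_hasPullback (h ≫ str A V) _
  haveI : Flat (MoreMor.fiberMap h (str A V) s) := by
    rw [← sq.isoPullback_hom_snd]
    infer_instance
  exact ((((Groth.Agent.S1386.result h (str A V)).1 x).1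
    ⟨Flat.stalkMap _ x, Flat.stalkMap _ _⟩)).2

/-- Smoothness at the points over the closed point. -/
theorem smooth_of_closed [LocallyOfFinitePresentation h] (hflat : ∀ x : X, str A V (h x) = IsLocalRing.closedPoint V →
      (h.stalkMap x).hom.Flat) (h0 : Smooth (h₀ V h)) (x : X) (hx : str A V (h x) = IsLocalRing.closedPoint V) :
    x ∈ h.smoothLocus := by
  haveI : LocallyOfFinitePresentation (h.fiberToSpecResidueField (h.base x)) :=
    MorphismProperty.pullback_snd _ _ inferInstance
  rw [Groth.Agent.S2156.result h x]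
  refine ⟨hflat x hx, ?_⟩
  haveI : Smooth (h.fiberToSpecResidueField (h.base x)) := by
    refine prop_snd_of_fac V h @Smooth h0 _ fun a ha => appTop_eq_zero_of_range _ a fun z => ?_
    rw [Scheme.fromSpecResidueField_apply]
    exact (str_eq_closedPoint_iff A V _).1 hx ha
  rw [Scheme.Hom.smoothLocus_eq_top]
  trivial

/-- A property of a proper morphism near the closed fibre passes to the base change to a complete ring. -/
theorem prop_completion [IsNoetherianRing A] (P : MorphismProperty Scheme.{u}) [P.IsStableUnderBaseChange] [IsProper h]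
    (U : X.Opens) (hU : ∀ x : X, str A V (h x) = IsLocalRing.closedPoint V → x ∈ U) (hP : P (U.ι ≫ h)) :
    P (pullback.snd h (Spec.map (CommRingCat.ofHom (algebraMap A (AdicCompletion (J V A) A))))) := by
  let g := Spec.map (CommRingCat.ofHom (algebraMap A (AdicCompletion (J V A) A)))
  haveI := Groth.L16.Exist.isComplete_completion (J V A)
  have hjac := IsAdicComplete.le_jacobson_bot ((J V A).map (algebraMap A (AdicCompletion (J V A) A)))
  let pf := pullback.fst h g
  let ps := pullback.snd h g
  have htop : pf ⁻¹ᵁ U = ⊤ := by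
    refine top_unique fun x' _ => ?_
    by_contra hx'
    have hcl : IsClosed (ps '' closure {x'}) := ps.isClosedMap _ isClosed_closure
    have hq : (show PrimeSpectrum _ from ps x') ∈ ps '' closure {x'} := ⟨x', subset_closure rfl, rfl⟩
    obtain ⟨M, hM, hle⟩ := Ideal.exists_le_maximal _ (show PrimeSpectrum (AdicCompletion (J V A) A) from ps x').isPrime.ne_top
    have hMm : (⟨M, hM.isPrime⟩ : PrimeSpectrum (AdicCompletion (J V A) A)) ∈ ps '' closure {x'} :=
      ((PrimeSpectrum.le_iff_specializes _ _).1 hle).mem_closed hcl hq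
    obtain ⟨y, hy, hyM⟩ := hMm
    have hyU : pf y ∈ U := hU _ <| (str_eq_closedPoint_iff A V _).2 <| by
      have hc : h (pf y) = g (ps y) := congrArg (fun m : pullback h g ⟶ _ => m y) pullback.condition
      intro a ha
      rw [hc, hyM]
      exact Ideal.mem_comap.1 (show algebraMap A _ a ∈ M from
        (Ideal.mem_sInf.1 (hjac (Ideal.mem_map_of_mem _ ha))) ⟨bot_le, hM⟩)
    exact hx' ((specializes_iff_mem_closure.2 hy).mem_open (pf ⁻¹ᵁ U).2 hyU)
  have hr : Set.range pf ⊆ Set.range U.ι := by
    rintro _ ⟨x', rfl⟩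
    rw [Scheme.Opens.range_ι]
    exact show x' ∈ pf ⁻¹ᵁ U from htop.symm ▸ trivial
  let k := IsOpenImmersion.lift U.ι pf hr
  have hk : k ≫ U.ι = pf := IsOpenImmersion.lift_fac _ _ _
  have sq : IsPullback k ps (U.ι ≫ h) g := by
    refine IsPullback.mk ⟨?_⟩ ⟨PullbackCone.IsLimit.mk _ (fun s => pullback.lift (s.fst ≫ U.ι) s.snd
      (by rw [Category.assoc]; exact s.condition)) ?_ ?_ ?_⟩
    · rw [← Category.assoc, hk]; exact pullback.condition
    · intro s
      rw [← cancel_mono U.ι, Category.assoc, hk, pullback.lift_fst]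
    · intro s
      exact pullback.lift_snd _ _ _
    · intro s m h1 h2
      apply pullback.hom_ext
      · rw [pullback.lift_fst, ← h1, Category.assoc, hk]
      · rw [pullback.lift_snd]; exact h2
  exact P.of_isPullback sq hP

/-- Flatness over a discrete valuation ring, from the completion. -/
theorem flat_comp_of_completion [IsNoetherianRing A] [IsDomain V] [IsDiscreteValuationRing V] [Module.Flat V A]
    (hc : Flat (pullback.snd h (Spec.map (CommRingCat.ofHom (algebraMap A (AdicCompletion (J V A) A)))))) :
    Flat (h ≫ str A V) := by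
  let g := Spec.map (CommRingCat.ofHom (algebraMap A (AdicCompletion (J V A) A)))
  haveI : Flat g := (HasRingHomProperty.Spec_iff (P := @Flat)).mpr
    (RingHom.flat_algebraMap_iff.2 (AdicCompletion.flat_of_isNoetherian _))
  haveI : Flat (str A V) := (HasRingHomProperty.Spec_iff (P := @Flat)).mpr
    (RingHom.flat_algebraMap_iff.2 inferInstance)
  refine Flat.of_stalkMap _ fun x => ?_
  by_cases hx : str A V (h x) = IsLocalRing.closedPoint V
  · haveI := hc
    obtain ⟨x', rfl⟩ : x ∈ Set.range (pullback.fst h g) := by
      rw [Scheme.Pullback.range_fst, Set.mem_preimage]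
      obtain ⟨e, he⟩ : ∃ e : AdicCompletion (J V A) A →+* A ⧸ J V A, e.comp (algebraMap A _) = Ideal.Quotient.mk _ :=
        ⟨(AdicCompletion.evalOneₐ (J V A)).toRingHom, (AdicCompletion.evalOneₐ (J V A)).comp_algebraMap⟩
      have hy : h x ∈ Set.range (Spec.map (CommRingCat.ofHom (Ideal.Quotient.mk (J V A)))) := by
        rw [show Set.range (Spec.map (CommRingCat.ofHom (Ideal.Quotient.mk (J V A)))) =
          Set.range (PrimeSpectrum.comap (Ideal.Quotient.mk (J V A))) from rfl,
          range_comap_of_surjective _ _ Ideal.Quotient.mk_surjective, Ideal.mk_ker]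
        exact (str_eq_closedPoint_iff A V _).1 hx
      obtain ⟨q, hq⟩ := hy
      refine ⟨Spec.map (CommRingCat.ofHom e) q, ?_⟩
      rw [← hq, ← he, CommRingCat.ofHom_comp, Spec.map_comp]
      rfl
    have h1 : ((pullback.fst h g ≫ h ≫ str A V).stalkMap x').hom.Flat := by
      haveI : Flat (pullback.fst h g ≫ h ≫ str A V) := by
        rw [← Category.assoc, pullback.condition, Category.assoc]
        infer_instance
      exact Flat.stalkMap _ _
    exact Groth.L20.flat_stalkMap_of_comp (pullback.fst h g) (h ≫ str A V) x' h1 (Flat.stalkMap _ _)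
  · let s := (h ≫ str A V) x
    have hfield : IsField ((Spec (CommRingCat.of V)).presheaf.stalk s) := by
      let p : PrimeSpectrum V := s
      have hp : p.asIdeal = ⊥ := by
        by_contra hne
        exact hx (PrimeSpectrum.ext ((IsLocalRing.isMaximal_iff (R := V)).1
          (p.isPrime.isMaximal hne)))
      letI : Algebra V ((Spec (CommRingCat.of V)).presheaf.stalk s) := StructureSheaf.stalkAlgebra V p
      haveI : IsLocalization.AtPrime ((Spec (CommRingCat.of V)).presheaf.stalk s) p.asIdeal :=
        StructureSheaf.IsLocalization.to_stalk V p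
      haveI : IsFractionRing V ((Spec (CommRingCat.of V)).presheaf.stalk s) := by
        have := (inferInstance : IsLocalization p.asIdeal.primeCompl ((Spec (CommRingCat.of V)).presheaf.stalk s))
        convert this using 1
        ext a
        simp [hp]
      exact (IsFractionRing.toField V).toIsField
    letI := hfield.toField
    letI := ((h ≫ str A V).stalkMap x).hom.toAlgebra
    exact inferInstanceAs (Module.Flat ((Spec (CommRingCat.of V)).presheaf.stalk s) (X.presheaf.stalk x))

/-- From the completion to the reduction. -/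
theorem prop_reduction (P : MorphismProperty Scheme.{u}) [P.IsStableUnderBaseChange]
    (hP : P (pullback.snd h (Spec.map (CommRingCat.ofHom (algebraMap A (AdicCompletion (J V A) A)))))) :
    P (h₀ V h) := by
  let g := Spec.map (CommRingCat.ofHom (algebraMap A (AdicCompletion (J V A) A)))
  let e := Spec.map (CommRingCat.ofHom (AdicCompletion.evalOneₐ (J V A)).toRingHom)
  have he : e ≫ g = Spec.map (CommRingCat.ofHom (Ideal.Quotient.mk (J V A))) := by
    rw [← Spec.map_comp, ← CommRingCat.ofHom_comp]
    exact congrArg (fun m => Spec.map (CommRingCat.ofHom m)) (AdicCompletion.evalOneₐ (J V A)).comp_algebraMap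
  have h1 : IsPullback (pullback.map h (Spec.map (CommRingCat.ofHom (Ideal.Quotient.mk (J V A)))) h g
      (𝟙 _) e (𝟙 _) (by simp) (by rw [Category.comp_id]; exact he.symm)) (h₀ V h) (pullback.snd h g) e := by
    refine IsPullback.of_right ?_ (pullback.lift_snd _ _ _) (IsPullback.of_hasPullback _ _)
    rw [pullback.lift_fst, Category.comp_id, he]
    exact IsPullback.of_hasPullback _ _
  exact P.of_isPullback h1 hP

end Groth.L07.FlatCompl
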